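import Groth.Agent.GerbeLib.Basic
import Groth.Agent.StkTopLib.Glue
import Groth.Prelude.Def_StGerb2

/-! Gluing of vertical morphisms; equivalences of gerbes through automorphism groups. -/

set_option autoImplicit false
set_option linter.all false
set_option backward.isDefEq.respectTransparency false
set_option backward.isDefEq.respectTransparency.types false

universe v u v₁ u₁ v₂ u₂

open CategoryTheory FibCat FibLib AlgStLib Gerb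
open CategoryTheory.Functor (Fiber IsStronglyCartesian)

namespace GerbeLib

variable {C : Type u} [Category.{v} C] {J : GrothendieckTopology C}
  {𝒳 : BasedCategory.{v₁, u₁} C} {𝒴 : BasedCategory.{v₂, u₂} C}

/-- Vertical morphisms glue in a prestack. -/
lemma vert_glue (h𝒳 : Stk.IsPrestack J 𝒳) {U : C} {a b : 𝒳.obj} (ha : 𝒳.p.obj a = U) (hb : 𝒳.p.obj b = U)
    {R : Sieve U} (hR : R ∈ J U)
    (θ : ∀ ⦃V : C⦄ ⦃z : 𝒳.obj⦄ (f : V ⟶ U), R.arrows f → ∀ φ : z ⟶ a, 𝒳.p.IsHomLift f φ → (z ⟶ b))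
    (hlift : ∀ ⦃V z⦄ (f : V ⟶ U) (hf : R.arrows f) (φ : z ⟶ a) (hφ : 𝒳.p.IsHomLift f φ),
      𝒳.p.IsHomLift f (θ f hf φ hφ))
    (hnat : ∀ ⦃V W z z'⦄ (g : W ⟶ V) (f : V ⟶ U) (f' : W ⟶ U) (hf : R.arrows f) (hf' : R.arrows f') (e : g ≫ f = f')
      (φ : z ⟶ a) (hφ : 𝒳.p.IsHomLift f φ) (χ : z' ⟶ z) (hχ : 𝒳.p.IsHomLift g χ) (φ' : z' ⟶ a)
      (hφ' : 𝒳.p.IsHomLift f' φ') (eφ : χ ≫ φ = φ'), θ f' hf' φ' hφ' = χ ≫ θ f hf φ hφ) :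
    ∃ δ : a ⟶ b, 𝒳.p.IsHomLift (𝟙 U) δ ∧
      ∀ ⦃V z⦄ (f : V ⟶ U) (hf : R.arrows f) (φ : z ⟶ a) (hφ : 𝒳.p.IsHomLift f φ), φ ≫ δ = θ f hf φ hφ := by
  haveI := h𝒳.1
  let x : 𝒳.p.Fiber U := ⟨a, ha⟩
  let x' : 𝒳.p.Fiber U := ⟨b, hb⟩
  let G := ofPoint x
  let H := ofPoint x'
  obtain ⟨e⟩ := nonempty_evalAtId_ofPoint_iso x
  obtain ⟨e'⟩ := nonempty_evalAtId_ofPoint_iso x'
  let T₀ : Over U := Over.mk (𝟙 U)
  haveI : 𝒳.p.IsHomLift (𝟙 U) e.hom.1 := e.hom.2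
  haveI : 𝒳.p.IsHomLift (𝟙 U) e'.hom.1 := e'.hom.2
  haveI : 𝒳.p.IsHomLift (𝟙 U) e.inv.1 := e.inv.2
  have hφ : ∀ T : Over U, 𝒳.p.IsHomLift T.hom (G.map (toId T) ≫ e.hom.1) := fun T => by
    haveI : 𝒳.p.IsHomLift T.hom (G.map (toId T)) := lift_map G (toId T)
    exact IsHomLift.comp_lift_id_right 𝒳.p T.hom (G.map (toId T)) e.hom.1
  have hψ : ∀ T : Over U, 𝒳.p.IsHomLift T.hom (H.map (toId T) ≫ e'.hom.1) := fun T => by
    haveI : 𝒳.p.IsHomLift T.hom (H.map (toId T)) := lift_map H (toId T)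
    exact IsHomLift.comp_lift_id_right 𝒳.p T.hom (H.map (toId T)) e'.hom.1
  choose k hk hk' using fun w : (Stk.sieveCat R).obj =>
    exists_vert 𝒳.p w.obj.hom (θ w.obj.hom w.property _ (hφ w.obj)) (H.map (toId w.obj) ≫ e'.hom.1)
      (hlift _ _ _ _) (hψ w.obj)
  have nat : ∀ {w w' : (Stk.sieveCat R).obj} (m : w ⟶ w'),
      G.map m.hom ≫ (k w').hom = (k w).hom ≫ H.map m.hom := by
    intro w w' m
    haveI := hψ w'.obj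
    haveI : 𝒳.p.IsStronglyCartesian w'.obj.hom (H.map (toId w'.obj) ≫ e'.hom.1) :=
      FibLib.isStronglyCartesian_of_isFibGrpd (p := 𝒳.p) _ _
    haveI hG : 𝒳.p.IsHomLift m.hom.left (G.map m.hom) := lift_map G m.hom
    haveI hH : 𝒳.p.IsHomLift m.hom.left (H.map m.hom) := lift_map H m.hom
    haveI := hk w
    haveI := hk w'
    haveI : 𝒳.p.IsHomLift m.hom.left (G.map m.hom ≫ (k w').hom) := isHomLift_comp_id _ _ _ _ hG (hk w')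
    haveI : 𝒳.p.IsHomLift m.hom.left ((k w).hom ≫ H.map m.hom) := isHomLift_id_comp _ _ _ _ (hk w) hH
    refine IsStronglyCartesian.ext 𝒳.p w'.obj.hom (H.map (toId w'.obj) ≫ e'.hom.1) m.hom.left ?_
    have et : m.hom ≫ toId w'.obj = toId w.obj :=
      Over.OverMorphism.ext (show m.hom.left ≫ w'.obj.hom = w.obj.hom from Over.w m.hom)
    rw [Category.assoc, hk' w', Category.assoc, ← H.toFunctor.map_comp_assoc, et, hk' w]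
    exact (hnat m.hom.left w'.obj.hom w.obj.hom w'.property w.property (Over.w m.hom) _ (hφ w'.obj)
      (G.map m.hom) hG _ (hφ w.obj) (by rw [← G.toFunctor.map_comp_assoc, et])).symm
  let α : (Stk.resSieve R 𝒳).obj G ⟶ (Stk.resSieve R 𝒳).obj H :=
    { toNatTrans := { app := fun w => (k w).hom, naturality := fun {w w'} m => nat m }
      isHomLift' := fun w => hk w }
  haveI := (h𝒳.2 R hR).1
  obtain ⟨β, hβ⟩ := (Stk.resSieve R 𝒳).map_surjective α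
  haveI : 𝒳.p.IsHomLift (𝟙 U) (β.toNatTrans.app T₀) := BasedNatTrans.isHomLift β rfl
  have hδ : 𝒳.p.IsHomLift (𝟙 U) (e.inv.1 ≫ β.toNatTrans.app T₀ ≫ e'.hom.1) :=
    isHomLift_id_comp _ _ _ _ e.inv.2 (isHomLift_id_comp _ _ _ _ inferInstance e'.hom.2)
  refine ⟨_, hδ, fun V z f hf φ hφ' => ?_⟩
  let T : Over U := Over.mk f
  let w : (Stk.sieveCat R).obj := ⟨T, hf⟩
  obtain ⟨χ, hχ, eχ⟩ := exists_vert 𝒳.p f φ (G.map (toId T) ≫ e.hom.1) hφ' (hφ T)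
  have ek : β.toNatTrans.app T = (k w).hom := congrArg (fun t => t.toNatTrans.app w) hβ
  have ee : e.hom.1 ≫ e.inv.1 = 𝟙 _ := congrArg Subtype.val e.hom_inv_id
  rw [hnat (𝟙 V) f f hf hf (Category.id_comp f) _ (hφ T) χ.hom hχ φ hφ' eχ]
  show φ ≫ _ = χ.hom ≫ θ w.obj.hom w.property _ (hφ w.obj)
  rw [← hk' w, ← eχ]
  simp only [Category.assoc]
  rw [reassoc_of% ee, ← ek]
  congr 1
  exact β.toNatTrans.naturality_assoc (toId T) e'.hom.1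

section Aut

variable [IsFibGrpd 𝒳.p] [IsFibGrpd 𝒴.p]

/-- Objects of a gerbe are locally isomorphic. -/
lemma exists_local_iso (h : IsGerbeOver J (toSelf 𝒳)) {U : C} (x x' : 𝒳.obj) (hx : 𝒳.p.obj x = U)
    (hx' : 𝒳.p.obj x' = U) : ∃ R ∈ J U, ∀ ⦃V : C⦄ (f : V ⟶ U), R.arrows f →
      ∃ (z : 𝒳.obj) (φ : z ⟶ x) (ψ : z ⟶ x'), 𝒳.p.IsHomLift f φ ∧ 𝒳.p.IsHomLift f ψ := by
  subst hx
  obtain ⟨R, hR, hl⟩ := h.2 x x' (eqToHom hx'.symm : 𝒳.p.obj x ⟶ 𝒳.p.obj x')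
    (IsHomLift.of_fac' (𝟭 C) _ _ rfl hx' (by simp))
  refine ⟨R, hR, fun V f hf => ?_⟩
  obtain ⟨z, φ, ψ, hφ, hψ, -⟩ := hl f hf
  exact ⟨z, φ, ψ, hφ, hψ⟩

/-- Locally every object maps to a global object. -/
lemma exists_local_hom (h : IsGerbeOver J (toSelf 𝒳)) (s : 𝒳.obj) (hs : ∀ U : C, Nonempty (U ⟶ 𝒳.p.obj s))
    {U : C} (x : 𝒳.obj) (hx : 𝒳.p.obj x = U) : ∃ R ∈ J U, ∀ ⦃V : C⦄ (f : V ⟶ U), R.arrows f →
      ∀ ⦃z : 𝒳.obj⦄ (φ : z ⟶ x), 𝒳.p.IsHomLift f φ → Nonempty (z ⟶ s) := by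
  obtain ⟨g⟩ := hs U
  obtain ⟨s', π, hπ⟩ := FibLib.exists_lift 𝒳.p (a := s) rfl g
  obtain ⟨R, hR, hl⟩ := exists_local_iso h x s' hx (@IsHomLift.domain_eq _ _ _ _ _ _ _ _ _ g π hπ)
  refine ⟨R, hR, fun V f hf z φ hφ => ?_⟩
  obtain ⟨z₀, φ₀, ψ₀, hφ₀, -⟩ := hl f hf
  obtain ⟨i, -, -⟩ := exists_vert 𝒳.p f φ φ₀ hφ hφ₀
  exact ⟨i.hom ≫ ψ₀ ≫ π⟩

variable (F : 𝒳 ⥤ᵇ 𝒴)

lemma eq_of_map_eq {z x : 𝒳.obj} {V U : C} (f : V ⟶ U) (t t' : z ⟶ x) (ht : 𝒳.p.IsHomLift f t)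
    (ht' : 𝒳.p.IsHomLift f t') (hF : Function.Injective (Gerb.autMap F z)) (e : F.map t = F.map t') : t = t' := by
  obtain ⟨i, hi, ei⟩ := exists_vert 𝒳.p f t t' ht ht'
  have hz : 𝒳.p.obj z = V := @IsHomLift.domain_eq _ _ _ _ _ _ _ _ _ f t ht
  subst hz
  let γ : AutO z := FibLib.fiberIso 𝒳.p (a := fib z) (b := fib z) i hi
  have : Gerb.autMap F z γ = 1 := by
    apply Aut.ext; apply Fiber.hom_ext
    show F.map i.hom = 𝟙 (F.obj z)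
    haveI := ht'
    haveI := hi
    haveI : 𝒴.p.IsHomLift f (F.map t') := F.preserves_isHomLift f t'
    haveI : 𝒴.p.IsStronglyCartesian f (F.map t') := FibLib.isStronglyCartesian_of_isFibGrpd (p := 𝒴.p) _ _
    haveI : 𝒴.p.IsHomLift (𝟙 (𝒳.p.obj z)) (F.map i.hom) := F.preserves_isHomLift _ i.hom
    haveI : 𝒴.p.IsHomLift (𝟙 (𝒳.p.obj z)) (𝟙 (F.obj z)) := IsHomLift.id (F.w_obj z)
    refine IsStronglyCartesian.ext 𝒴.p f (F.map t') (𝟙 (𝒳.p.obj z)) ?_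
    rw [← F.toFunctor.map_comp, ei, e, Category.id_comp]
  have hγ : γ = 1 := hF (this.trans (map_one _).symm)
  have : i.hom = 𝟙 z := congrArg (fun g : AutO z => g.hom.1) hγ
  rw [← ei, this, Category.id_comp]

/-- A map of gerbes that is bijective on automorphism groups of objects mapping to a global object is an
equivalence. -/
theorem isEquivOver_of_autMap {C : Type u} [Category.{v} C] {J : GrothendieckTopology C}
    {𝒳 𝒴 : BasedCategory.{v, max u v} C}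
    (h𝒳 : IsGerbe J 𝒳) (h𝒴 : IsGerbe J 𝒴) (F : 𝒳 ⥤ᵇ 𝒴) (s : 𝒳.obj)
    (hs : ∀ U : C, Nonempty (U ⟶ 𝒳.p.obj s))
    (hF : ∀ x (c : x ⟶ s), Function.Bijective (Gerb.autMap F x)) : IsEquivOver F := by
  haveI := h𝒳.1.1
  haveI := h𝒴.1.1
  haveI : F.toFunctor.Faithful := by
    refine faithful_of_fiber F (preservesStronglyCartesian_of_isFibGrpd F) fun U => ⟨fun {a b α β} hab => Fiber.hom_ext ?_⟩
    obtain ⟨R, hR, hl⟩ := exists_local_hom h𝒳.2 s hs a.1 a.2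
    haveI := α.2
    haveI := β.2
    refine StkTopLib.vert_ext (AlgStLib.isPrestack_of_isStack h𝒳.1) α.1 β.1 hR fun V f hf => ?_
    obtain ⟨z, φ, hφ⟩ := FibLib.exists_lift 𝒳.p a.2 f
    obtain ⟨c⟩ := hl f hf φ hφ
    haveI := hφ
    refine ⟨z, φ, hφ, eq_of_map_eq F f _ _ (isHomLift_comp_id _ _ _ _ hφ α.2) (isHomLift_comp_id _ _ _ _ hφ β.2)
      (hF z c).1 ?_⟩
    rw [Functor.map_comp, Functor.map_comp]
    exact congrArg (fun t => F.map φ ≫ t) (congrArg Subtype.val hab)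
  haveI : F.toFunctor.Full := by
    refine full_of_fiber F (preservesStronglyCartesian_of_isFibGrpd F) fun U => ⟨fun {a a'} b => ?_⟩
    obtain ⟨R₁, hR₁, hl⟩ := exists_local_hom h𝒳.2 s hs a.1 a.2
    obtain ⟨R₂, hR₂, hl₂⟩ := exists_local_iso h𝒳.2 a.1 a'.1 a.2 a'.2
    have hb : 𝒴.p.IsHomLift (𝟙 U) b.1 := b.2
    have ex : ∀ ⦃V : C⦄ ⦃z : 𝒳.obj⦄ (f : V ⟶ U), (R₁ ⊓ R₂).arrows f → ∀ φ : z ⟶ a.1, 𝒳.p.IsHomLift f φ →
        ∃ t : z ⟶ a'.1, 𝒳.p.IsHomLift f t ∧ F.map t = F.map φ ≫ b.1 := by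
      intro V z f hf φ hφ
      obtain ⟨c⟩ := hl f hf.1 φ hφ
      obtain ⟨z₀, φ₀, ψ₀, hφ₀, hψ₀⟩ := hl₂ f hf.2
      obtain ⟨i, hi, -⟩ := exists_vert 𝒳.p f φ φ₀ hφ hφ₀
      have hψ : 𝒳.p.IsHomLift f (i.hom ≫ ψ₀) := isHomLift_id_comp _ _ _ _ hi hψ₀
      haveI := hψ
      haveI := hφ
      obtain ⟨d, hd, ed⟩ := exists_vert 𝒴.p f (F.map φ ≫ b.1) (F.map (i.hom ≫ ψ₀))
        (isHomLift_comp_id _ _ _ _ (F.preserves_isHomLift f φ) hb) (F.preserves_isHomLift f _)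
      have hz : 𝒳.p.obj z = V := IsHomLift.domain_eq 𝒳.p f φ
      subst hz
      have hd' : 𝒴.p.IsHomLift (𝟙 (𝒴.p.obj (F.obj z))) d.hom := by rw [F.w_obj z]; exact hd
      obtain ⟨γ, hγ⟩ := (hF z c).2 (FibLib.fiberIso 𝒴.p (a := fib (F.obj z)) (b := fib (F.obj z)) d hd')
      have eγ : F.map γ.hom.1 = d.hom := congrArg (fun g : AutO (F.obj z) => g.hom.1) hγ
      exact ⟨γ.hom.1 ≫ i.hom ≫ ψ₀, isHomLift_id_comp _ _ _ _ γ.hom.2 hψ,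
        by rw [Functor.map_comp, eγ, ed]⟩
    choose θ hθ hθ' using ex
    have hR := J.intersection_covering hR₁ hR₂
    obtain ⟨δ, hδ, eδ⟩ := vert_glue (AlgStLib.isPrestack_of_isStack h𝒳.1) a.2 a'.2 hR θ hθ
      (fun V W z z' g f f' hf hf' e φ hφ χ hχ φ' hφ' eφ => F.toFunctor.map_injective (by
        rw [Functor.map_comp, hθ', hθ', ← eφ, Functor.map_comp, Category.assoc]))
    haveI := hδ
    haveI := hb
    haveI : 𝒴.p.IsHomLift (𝟙 U) (F.map δ) := F.preserves_isHomLift _ δ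
    refine ⟨⟨δ, hδ⟩, Fiber.hom_ext ?_⟩
    refine StkTopLib.vert_ext (AlgStLib.isPrestack_of_isStack h𝒴.1) (F.map δ) b.1 hR fun V f hf => ?_
    obtain ⟨z, φ, hφ⟩ := FibLib.exists_lift 𝒳.p a.2 f
    haveI := hφ
    exact ⟨F.obj z, F.map φ, F.preserves_isHomLift f φ, by rw [← F.toFunctor.map_comp, eδ f hf φ hφ, hθ']⟩
  refine (StkTopLib.isEquivOver_iff_locEssSurj h𝒳.1 h𝒴.1 F).mpr fun y => ?_
  obtain ⟨g⟩ := hs (𝒴.p.obj y)
  obtain ⟨s', π, hπ⟩ := FibLib.exists_lift 𝒳.p (a := s) rfl g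
  obtain ⟨R, hR, hl⟩ := exists_local_iso h𝒴.2 y (F.obj s') rfl
    ((F.w_obj s').trans (@IsHomLift.domain_eq _ _ _ _ _ _ _ _ _ g π hπ))
  refine ⟨R, hR, fun V f hf => ?_⟩
  obtain ⟨z₀, φ, ψ, hφ, hψ⟩ := hl f hf
  obtain ⟨s'', ρ, hρ⟩ := FibLib.exists_lift 𝒳.p (a := s')
    (@IsHomLift.domain_eq _ _ _ _ _ _ _ _ _ g π hπ) f
  haveI := hρ
  obtain ⟨i, hi, -⟩ := exists_vert 𝒴.p f (F.map ρ) ψ (F.preserves_isHomLift f ρ) hψ
  exact ⟨s'', i.hom ≫ φ, isHomLift_id_comp _ _ _ _ hi hφ⟩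

end Aut

end GerbeLib
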