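import Groth.Agent.FibLib.Fp
import Groth.Prelude.Def_StGerb

/-! Formal properties of gerbes over a functor of categories over a site. -/

set_option autoImplicit false
set_option linter.all false
set_option backward.isDefEq.respectTransparency false
set_option backward.isDefEq.respectTransparency.types false

universe v u v₁ u₁ v₂ u₂ v₃ u₃ v₄ u₄

open CategoryTheory FibCat FibLib Gerb

namespace GerbeLib

variable {C : Type u} [Category.{v} C] {J : GrothendieckTopology C}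
  {𝒳 : BasedCategory.{v₁, u₁} C} {𝒴 : BasedCategory.{v₂, u₂} C} {𝒵 : BasedCategory.{v₃, u₃} C}
  {𝒳' : BasedCategory.{v₄, u₄} C}

lemma locSurjObj_at {F : 𝒳 ⥤ᵇ 𝒴} (h : LocSurjObj J F) (y : 𝒴.obj) {U : C} (hy : 𝒴.p.obj y = U) :
    ∃ R ∈ J U, ∀ ⦃V : C⦄ (f : V ⟶ U), R.arrows f →
      ∃ (x : 𝒳.obj) (g : F.obj x ⟶ y), 𝒴.p.IsHomLift f g := by
  subst hy; exact h y

lemma locSurjHom_at {F : 𝒳 ⥤ᵇ 𝒴} (h : LocSurjHom J F) {U : C} (x x' : 𝒳.obj) (hx : 𝒳.p.obj x = U)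
    (b : F.obj x ⟶ F.obj x') (hb : 𝒴.p.IsHomLift (𝟙 U) b) :
    ∃ R ∈ J U, ∀ ⦃V : C⦄ (f : V ⟶ U), R.arrows f → ∃ (x₀ : 𝒳.obj) (φ : x₀ ⟶ x) (ψ : x₀ ⟶ x'),
      𝒳.p.IsHomLift f φ ∧ 𝒳.p.IsHomLift f ψ ∧ F.map φ ≫ b = F.map ψ := by
  subst hx; exact h x x' b hb

/-- A morphism over the identity into the domain of a lift. -/
lemma isHomLift_id_comp {P : Type*} [Category P] (p : P ⥤ C) {R T : C} (f : R ⟶ T) {a b c : P}
    (φ : a ⟶ b) (ψ : b ⟶ c) (hφ : p.IsHomLift (𝟙 R) φ) (hψ : p.IsHomLift f ψ) :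
    p.IsHomLift f (φ ≫ ψ) := by
  have := hφ
  have := hψ
  have : p.IsHomLift (𝟙 R ≫ f) (φ ≫ ψ) := inferInstance
  simpa using this

lemma isHomLift_comp_id {P : Type*} [Category P] (p : P ⥤ C) {R T : C} (f : R ⟶ T) {a b c : P}
    (φ : a ⟶ b) (ψ : b ⟶ c) (hφ : p.IsHomLift f φ) (hψ : p.IsHomLift (𝟙 T) ψ) :
    p.IsHomLift f (φ ≫ ψ) := by
  have := hφ
  have := hψ
  have : p.IsHomLift (f ≫ 𝟙 T) (φ ≫ ψ) := inferInstance
  simpa using this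

/-- Two lifts of one arrow differ by a unique vertical isomorphism. -/
lemma exists_vert {P : Type*} [Category P] (p : P ⥤ C) [IsFibGrpd p] {R T : C} (f : R ⟶ T) {a b c : P}
    (φ : a ⟶ c) (ψ : b ⟶ c) (hφ : p.IsHomLift f φ) (hψ : p.IsHomLift f ψ) :
    ∃ i : a ≅ b, p.IsHomLift (𝟙 R) i.hom ∧ i.hom ≫ ψ = φ := by
  have := hφ
  have := hψ
  haveI : p.IsStronglyCartesian f ψ := FibLib.isStronglyCartesian_of_isFibGrpd (p := p) f ψ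
  let i := Functor.IsStronglyCartesian.map p f ψ (g := 𝟙 R) (Category.id_comp f).symm φ
  haveI : p.IsHomLift (𝟙 R) i := Functor.IsStronglyCartesian.map_isHomLift p f ψ (Category.id_comp f).symm φ
  haveI : IsIso i := isIso_of_isHomLift (p := p) (𝟙 R) i
  exact ⟨asIso i, inferInstanceAs (p.IsHomLift (𝟙 R) i),
    Functor.IsStronglyCartesian.fac p f ψ (Category.id_comp f).symm φ⟩

lemma isGerbeOver_comp [IsFibGrpd 𝒳.p] [IsFibGrpd 𝒴.p] {F : 𝒳 ⥤ᵇ 𝒴} {G : 𝒴 ⥤ᵇ 𝒵}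
    (hF : IsGerbeOver J F) (hG : IsGerbeOver J G) : IsGerbeOver J (BasedFunctor.comp F G) := by
  refine ⟨fun z => ?_, fun x x' b hb => ?_⟩
  · obtain ⟨R, hR, h⟩ := hG.1 z
    choose y g hg using h
    have hy : ∀ ⦃V⦄ (f : V ⟶ 𝒵.p.obj z) (hf : R.arrows f), 𝒴.p.obj (y f hf) = V := fun V f hf =>
      (G.w_obj _).symm.trans (@IsHomLift.domain_eq _ _ _ _ _ _ _ _ _ f (g f hf) (hg f hf))
    choose R' hR' h' using fun ⦃V⦄ (f : V ⟶ 𝒵.p.obj z) (hf : R.arrows f) =>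
      locSurjObj_at hF.1 (y f hf) (hy f hf)
    refine ⟨Sieve.bind R.arrows R', J.bind_covering hR hR', ?_⟩
    rintro W _ ⟨V, k, f, hf, hk, rfl⟩
    obtain ⟨x, φ, hφ⟩ := h' f hf k hk
    haveI := hφ
    haveI := hg f hf
    haveI : 𝒵.p.IsHomLift k (G.map φ) := G.preserves_isHomLift k φ
    exact ⟨x, G.map φ ≫ g f hf, inferInstanceAs (𝒵.p.IsHomLift (k ≫ f) (G.map φ ≫ g f hf))⟩
  · have := hb
    obtain ⟨R, hR, h⟩ := locSurjHom_at hG.2 (F.obj x) (F.obj x') (F.w_obj x) b hb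
    choose y φ ψ hφ hψ e using h
    have ex : ∀ ⦃V⦄ (f : V ⟶ 𝒳.p.obj x) (hf : R.arrows f),
        ∃ (x₁ x₁' : 𝒳.obj) (a : x₁ ⟶ x) (a' : x₁' ⟶ x') (b₁ : F.obj x₁ ⟶ F.obj x₁'),
          𝒳.p.IsHomLift f a ∧ 𝒳.p.IsHomLift f a' ∧ 𝒴.p.IsHomLift (𝟙 V) b₁ ∧ 𝒳.p.obj x₁ = V ∧
            G.map (F.map a) ≫ b = G.map b₁ ≫ G.map (F.map a') := by
      intro V f hf
      have hx' : 𝒳.p.obj x' = 𝒳.p.obj x := by
        have := @IsHomLift.codomain_eq _ _ _ _ _ _ _ _ _ (𝟙 (𝒳.p.obj x)) b hb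
        exact ((G.w_obj _).trans (F.w_obj _)).symm.trans this
      obtain ⟨x₁, a, ha⟩ := FibLib.exists_lift 𝒳.p (a := x) rfl f
      obtain ⟨x₁', a', ha'⟩ := FibLib.exists_lift 𝒳.p (a := x') hx' f
      obtain ⟨i, hi, ei⟩ := exists_vert 𝒴.p f (F.map a) (φ f hf)
        (by haveI := ha; exact F.preserves_isHomLift f a) (hφ f hf)
      obtain ⟨i', hi', ei'⟩ := exists_vert 𝒴.p f (ψ f hf) (F.map a') (hψ f hf)
        (by haveI := ha'; exact F.preserves_isHomLift f a')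
      haveI := hi
      haveI := hi'
      refine ⟨x₁, x₁', a, a', i.hom ≫ i'.hom, ha, ha', isHomLift_id_comp _ _ _ _ hi hi',
        @IsHomLift.domain_eq _ _ _ _ _ _ _ _ _ f a ha, ?_⟩
      rw [← ei, Functor.map_comp, Category.assoc, e f hf, ← ei']
      simp
    choose x₁ x₁' a a' b₁ ha ha' hb₁ hx₁ e₁ using ex
    choose R' hR' h' using fun ⦃V⦄ (f : V ⟶ 𝒳.p.obj x) (hf : R.arrows f) =>
      locSurjHom_at hF.2 (x₁ f hf) (x₁' f hf) (hx₁ f hf) (b₁ f hf) (hb₁ f hf)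
    refine ⟨Sieve.bind R.arrows R', J.bind_covering hR hR', ?_⟩
    rintro W _ ⟨V, k, f, hf, hk, rfl⟩
    obtain ⟨x₀, c, d, hc, hd, ecd⟩ := h' f hf k hk
    haveI := hc
    haveI := hd
    haveI := ha f hf
    haveI := ha' f hf
    refine ⟨x₀, c ≫ a f hf, d ≫ a' f hf, inferInstance, inferInstance, ?_⟩
    show G.map (F.map (c ≫ a f hf)) ≫ b = G.map (F.map (d ≫ a' f hf))
    rw [Functor.map_comp, Functor.map_comp, Category.assoc, e₁ f hf, ← G.toFunctor.map_comp_assoc, ecd]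
    simp

lemma isGerbeOver_of_isEquivOver [IsFibGrpd 𝒳.p] {F : 𝒳 ⥤ᵇ 𝒴} (hF : IsEquivOver F) :
    IsGerbeOver J F := by
  obtain ⟨⟨_, _⟩, hv⟩ := (isEquivOver_iff F).mp hF
  refine ⟨fun y => ⟨⊤, J.top_mem _, fun V f _ => ?_⟩, fun x x' b hb => ⟨⊤, J.top_mem _, fun V f _ => ?_⟩⟩
  · obtain ⟨ξ, e, he⟩ := hv y
    have hξ : 𝒳.p.obj ξ = 𝒴.p.obj y :=
      (F.w_obj ξ).symm.trans (@IsHomLift.domain_eq _ _ _ _ _ _ _ _ _ (𝟙 (𝒴.p.obj y)) e.hom he)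
    obtain ⟨x, φ, hφ⟩ := FibLib.exists_lift 𝒳.p hξ f
    haveI := hφ
    exact ⟨x, F.map φ ≫ e.hom, isHomLift_comp_id _ _ _ _ (F.preserves_isHomLift f φ) he⟩
  · obtain ⟨t, rfl⟩ := F.toFunctor.map_surjective b
    haveI := hb
    have ht : 𝒳.p.IsHomLift (𝟙 (𝒳.p.obj x)) t := (F.isHomLift_iff _ t).mp hb
    obtain ⟨x₀, φ, hφ⟩ := FibLib.exists_lift 𝒳.p (a := x) rfl f
    exact ⟨x₀, φ, φ ≫ t, hφ, isHomLift_comp_id _ _ _ _ hφ ht, (F.toFunctor.map_comp _ _).symm⟩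

lemma isGerbeOver_of_iso {F F' : 𝒳 ⥤ᵇ 𝒴} (α : F ≅ F') (h : IsGerbeOver J F) : IsGerbeOver J F' := by
  refine ⟨fun y => ?_, fun x x' b hb => ?_⟩
  · obtain ⟨R, hR, hl⟩ := h.1 y
    refine ⟨R, hR, fun V f hf => ?_⟩
    obtain ⟨x, g, hg⟩ := hl f hf
    refine ⟨x, α.inv.toNatTrans.app x ≫ g, isHomLift_id_comp _ _ _ _ (α.inv.isHomLift ?_) hg⟩
    exact (F.w_obj x).symm.trans (@IsHomLift.domain_eq _ _ _ _ _ _ _ _ _ f g hg)
  · have := hb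
    have hx' : 𝒳.p.obj x' = 𝒳.p.obj x :=
      (F'.w_obj _).symm.trans (@IsHomLift.codomain_eq _ _ _ _ _ _ _ _ _ (𝟙 (𝒳.p.obj x)) b hb)
    have hb' : 𝒴.p.IsHomLift (𝟙 (𝒳.p.obj x)) (α.hom.toNatTrans.app x ≫ b ≫ α.inv.toNatTrans.app x') :=
      isHomLift_id_comp _ _ _ _ (α.hom.isHomLift rfl) (isHomLift_comp_id _ _ _ _ hb (α.inv.isHomLift hx'))
    obtain ⟨R, hR, hl⟩ := h.2 x x' _ hb'
    refine ⟨R, hR, fun V f hf => ?_⟩
    obtain ⟨x₀, φ, ψ, hφ, hψ, e⟩ := hl f hf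
    refine ⟨x₀, φ, ψ, hφ, hψ, ?_⟩
    have n₁ := α.inv.toNatTrans.naturality φ
    have n₂ := α.inv.toNatTrans.naturality ψ
    have h1 : α.hom.toNatTrans.app x₀ ≫ α.inv.toNatTrans.app x₀ = 𝟙 _ :=
      congrArg (fun t => t.toNatTrans.app x₀) α.hom_inv_id
    have h2 : ∀ z, α.inv.toNatTrans.app z ≫ α.hom.toNatTrans.app z = 𝟙 _ := fun z =>
      congrArg (fun t => t.toNatTrans.app z) α.inv_hom_id
    have n₃ := α.hom.toNatTrans.naturality ψ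
    have n₄ := α.hom.toNatTrans.naturality φ
    calc F'.map φ ≫ b = α.inv.toNatTrans.app x₀ ≫ F.map φ ≫ α.hom.toNatTrans.app x ≫ b := by
          rw [← Category.assoc (F.map φ), n₄, Category.assoc, ← Category.assoc, h2, Category.id_comp]
      _ = α.inv.toNatTrans.app x₀ ≫ (F.map φ ≫ (α.hom.toNatTrans.app x ≫ b ≫ α.inv.toNatTrans.app x')) ≫
          α.hom.toNatTrans.app x' := by simp only [Category.assoc, h2, Category.comp_id]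
      _ = F'.map ψ := by
          rw [e, n₃, ← Category.assoc, h2, Category.id_comp]

section Fp

variable [IsFibGrpd 𝒳.p] [IsFibGrpd 𝒴.p] [IsFibGrpd 𝒵.p] {F : 𝒳 ⥤ᵇ 𝒴} {G : 𝒵 ⥤ᵇ 𝒴}

/-- Gerbes descend along a locally surjective functor. -/
lemma isGerbeOver_of_fpFst (hG : LocSurjObj J G) (h : IsGerbeOver J (fpFst G F)) : IsGerbeOver J F := by
  haveI : IsFibGrpd (fp G F).p := isFibGrpd_fp
  refine ⟨fun y => ?_, fun x x' b hb => ?_⟩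
  · obtain ⟨R, hR, hl⟩ := hG y
    choose z g hg using hl
    have hz : ∀ ⦃V⦄ (f : V ⟶ 𝒴.p.obj y) (hf : R.arrows f), 𝒵.p.obj (z f hf) = V := fun V f hf =>
      (G.w_obj _).symm.trans (@IsHomLift.domain_eq _ _ _ _ _ _ _ _ _ f (g f hf) (hg f hf))
    choose R' hR' h' using fun ⦃V⦄ (f : V ⟶ 𝒴.p.obj y) (hf : R.arrows f) =>
      locSurjObj_at h.1 (z f hf) (hz f hf)
    refine ⟨Sieve.bind R.arrows R', J.bind_covering hR hR', ?_⟩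
    rintro W _ ⟨V, k, f, hf, hk, rfl⟩
    obtain ⟨o, φ, hφ⟩ := h' f hf k hk
    have hW : 𝒵.p.obj o.obj.fst = W := @IsHomLift.domain_eq _ _ _ _ _ _ _ _ _ k φ hφ
    have ho : 𝒴.p.IsHomLift (𝟙 W) o.obj.iso.hom := hW ▸ o.property
    have ho' := @IsHomLift.lift_id_inv _ _ _ _ 𝒴.p _ _ _ o.obj.iso ho
    haveI := hg f hf
    have h1 : 𝒴.p.IsHomLift k (G.map φ) := by haveI := hφ; exact G.preserves_isHomLift k φ
    haveI := isHomLift_id_comp _ _ _ (G.map φ) ho' h1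
    exact ⟨o.obj.snd, (o.obj.iso.inv ≫ G.map φ) ≫ g f hf, inferInstance⟩
  · have := hb
    obtain ⟨R, hR, hl⟩ := locSurjObj_at hG (F.obj x) (F.w_obj x)
    have hx' : 𝒳.p.obj x' = 𝒳.p.obj x :=
      (F.w_obj _).symm.trans (@IsHomLift.codomain_eq _ _ _ _ _ _ _ _ _ (𝟙 (𝒳.p.obj x)) b hb)
    have ex : ∀ ⦃V⦄ (f : V ⟶ 𝒳.p.obj x) (hf : R.arrows f),
        ∃ (o o' : (fp G F).obj) (q : o.obj.fst ⟶ o'.obj.fst) (a : o.obj.snd ⟶ x) (a' : o'.obj.snd ⟶ x'),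
          𝒵.p.IsHomLift (𝟙 V) q ∧ 𝒳.p.IsHomLift f a ∧ 𝒳.p.IsHomLift f a' ∧
          𝒵.p.obj o.obj.fst = V ∧
          o.obj.iso.hom ≫ F.map a ≫ b = G.map q ≫ o'.obj.iso.hom ≫ F.map a' := by
      intro V f hf
      obtain ⟨z, g, hg⟩ := hl f hf
      have hz : 𝒵.p.obj z = V := (G.w_obj _).symm.trans (@IsHomLift.domain_eq _ _ _ _ _ _ _ _ _ f g hg)
      obtain ⟨x₁, a, ha⟩ := FibLib.exists_lift 𝒳.p (a := x) rfl f
      obtain ⟨x₁', a', ha'⟩ := FibLib.exists_lift 𝒳.p (a := x') hx' f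
      obtain ⟨i, hi, ei⟩ := exists_vert 𝒴.p f g (F.map a) hg (by haveI := ha; exact F.preserves_isHomLift f a)
      obtain ⟨i', hi', ei'⟩ := exists_vert 𝒴.p f (g ≫ b) (F.map a') (isHomLift_comp_id _ _ _ _ hg hb)
        (by haveI := ha'; exact F.preserves_isHomLift f a')
      refine ⟨fpObj z x₁ i (by rw [hz]; exact hi), fpObj z x₁' i' (by rw [hz]; exact hi'), 𝟙 z, a, a',
        IsHomLift.id hz, ha, ha', hz, ?_⟩
      show i.hom ≫ F.map a ≫ b = G.map (𝟙 z) ≫ i'.hom ≫ F.map a'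
      rw [← Category.assoc, ei, ei', G.toFunctor.map_id]
      exact (Category.id_comp _).symm
    choose o o' q a a' hq ha ha' ho e using ex
    choose R' hR' h' using fun ⦃V⦄ (f : V ⟶ 𝒳.p.obj x) (hf : R.arrows f) =>
      locSurjHom_at h.2 (o f hf) (o' f hf) (ho f hf) (q f hf) (hq f hf)
    refine ⟨Sieve.bind R.arrows R', J.bind_covering hR hR', ?_⟩
    rintro W _ ⟨V, k, f, hf, hk, rfl⟩
    obtain ⟨o₀, c, d, hc, hd, ecd⟩ := h' f hf k hk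
    haveI := hc
    haveI := hd
    haveI := ha f hf
    haveI := ha' f hf
    haveI : 𝒳.p.IsHomLift k c.hom.snd := FibLib.isHomLift_snd k c
    haveI : 𝒳.p.IsHomLift k d.hom.snd := FibLib.isHomLift_snd k d
    refine ⟨o₀.obj.snd, c.hom.snd ≫ a f hf, d.hom.snd ≫ a' f hf, inferInstance, inferInstance, ?_⟩
    have ecd' : c.hom.fst ≫ q f hf = d.hom.fst := ecd
    rw [← cancel_epi o₀.obj.iso.hom, Functor.map_comp, Functor.map_comp, ← Category.assoc o₀.obj.iso.hom,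
      ← Category.assoc o₀.obj.iso.hom, ← Category.assoc o₀.obj.iso.hom]
    have wc := c.hom.w
    have wd := d.hom.w
    rw [← wc, ← wd, ← ecd', G.toFunctor.map_comp]
    simp only [Category.assoc]
    rw [e f hf]

lemma locSurjObj_fpFst (f : 𝒳 ⥤ᵇ 𝒴) (g : 𝒵 ⥤ᵇ 𝒴) (h : LocSurjObj J f) : LocSurjObj J (fpFst g f) := by
  intro y
  obtain ⟨R, hR, hl⟩ := h (g.obj y)
  refine ⟨R.pullback (eqToHom (g.w_obj y).symm), J.pullback_stable _ hR, fun V u hu => ?_⟩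
  obtain ⟨x, φ, hφ⟩ := hl _ hu
  haveI := hφ
  haveI hφ' : 𝒴.p.IsHomLift u φ := by simpa using hφ
  obtain ⟨y₁, ψ, hψ⟩ := FibLib.exists_lift 𝒵.p (a := y) rfl u
  haveI := hψ
  haveI : 𝒴.p.IsHomLift u (g.map ψ) := g.preserves_isHomLift u ψ
  haveI : 𝒴.p.IsStronglyCartesian u φ := FibLib.isStronglyCartesian_of_isFibGrpd (p := 𝒴.p) u φ
  let i := Functor.IsStronglyCartesian.map 𝒴.p u φ (g := 𝟙 V) (Category.id_comp u).symm (g.map ψ)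
  haveI : 𝒴.p.IsHomLift (𝟙 V) i :=
    Functor.IsStronglyCartesian.map_isHomLift 𝒴.p u φ (Category.id_comp u).symm (g.map ψ)
  haveI : IsIso i := isIso_of_isHomLift (p := 𝒴.p) (𝟙 V) i
  have hy : 𝒵.p.obj y₁ = V := IsHomLift.domain_eq 𝒵.p u ψ
  let o : (fp g f).obj := fpObj y₁ x (asIso i) (by rw [hy]; exact inferInstanceAs (𝒴.p.IsHomLift (𝟙 V) i))
  exact ⟨o, ψ, hψ⟩

lemma locSurjHom_fpFst (f : 𝒳 ⥤ᵇ 𝒴) (g : 𝒵 ⥤ᵇ 𝒴) (h : LocSurjHom J f) : LocSurjHom J (fpFst g f) := by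
  intro a a' b hb
  let b₀ : a.obj.fst ⟶ a'.obj.fst := b
  let U := 𝒵.p.obj a.obj.fst
  haveI hb₀ : 𝒵.p.IsHomLift (𝟙 U) b₀ := hb
  haveI ha : 𝒴.p.IsHomLift (𝟙 U) a.obj.iso.hom := a.property
  haveI hai : 𝒴.p.IsHomLift (𝟙 U) a.obj.iso.inv := @IsHomLift.lift_id_inv _ _ _ _ 𝒴.p _ _ _ a.obj.iso ha
  have e' : 𝒵.p.obj a'.obj.fst = U := IsHomLift.codomain_eq 𝒵.p (𝟙 U) b₀
  haveI ha' : 𝒴.p.IsHomLift (𝟙 U) a'.obj.iso.hom := by
    have := a'.property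
    unfold fpProp at this
    rwa [e'] at this
  haveI : 𝒴.p.IsHomLift (𝟙 U) (g.map b₀) := g.preserves_isHomLift (𝟙 U) b₀
  let β : f.obj a.obj.snd ⟶ f.obj a'.obj.snd := a.obj.iso.inv ≫ g.map b₀ ≫ a'.obj.iso.hom
  have hx : 𝒳.p.obj a.obj.snd = U := FibLib.obj_snd_eq a
  have hβ : 𝒴.p.IsHomLift (𝟙 U) β := by infer_instance
  obtain ⟨R, hR, hl⟩ := h a.obj.snd a'.obj.snd β (by rw [hx]; exact hβ)
  refine ⟨R.pullback (eqToHom hx.symm), J.pullback_stable _ hR, fun V u hu => ?_⟩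
  obtain ⟨x₀, φ, ψ, hφ, hψ, e⟩ := hl _ hu
  haveI := hφ
  haveI := hψ
  haveI hφ₁ : 𝒳.p.IsHomLift u φ := by simpa using hφ
  haveI hψ₁ : 𝒳.p.IsHomLift u ψ := by simpa using hψ
  obtain ⟨y₀, γ, hγ⟩ := FibLib.exists_lift 𝒵.p (a := a.obj.fst) rfl u
  haveI := hγ
  haveI : 𝒴.p.IsHomLift u (g.map γ) := g.preserves_isHomLift u γ
  haveI : 𝒴.p.IsHomLift u (f.map φ) := f.preserves_isHomLift u φ
  haveI : 𝒴.p.IsHomLift u (g.map γ ≫ a.obj.iso.hom) := by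
    have : 𝒴.p.IsHomLift (u ≫ 𝟙 U) (g.map γ ≫ a.obj.iso.hom) := inferInstance
    exact @FibLib.isHomLift_congr _ _ _ _ 𝒴.p _ _ _ _ (Category.comp_id u) _ _ _ this
  haveI : 𝒴.p.IsStronglyCartesian u (f.map φ) := FibLib.isStronglyCartesian_of_isFibGrpd (p := 𝒴.p) u _
  let i := Functor.IsStronglyCartesian.map 𝒴.p u (f.map φ) (g := 𝟙 V) (Category.id_comp u).symm
    (g.map γ ≫ a.obj.iso.hom)
  haveI : 𝒴.p.IsHomLift (𝟙 V) i :=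
    Functor.IsStronglyCartesian.map_isHomLift 𝒴.p u (f.map φ) (Category.id_comp u).symm _
  haveI : IsIso i := isIso_of_isHomLift (p := 𝒴.p) (𝟙 V) i
  have hi : i ≫ f.map φ = g.map γ ≫ a.obj.iso.hom :=
    Functor.IsStronglyCartesian.fac 𝒴.p u (f.map φ) (Category.id_comp u).symm _
  have hy : 𝒵.p.obj y₀ = V := IsHomLift.domain_eq 𝒵.p u γ
  let o : (fp g f).obj := fpObj y₀ x₀ (asIso i) (by rw [hy]; exact inferInstanceAs (𝒴.p.IsHomLift (𝟙 V) i))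
  let Φ : o ⟶ a := fpHom γ φ hi.symm
  let Ψ : o ⟶ a' := fpHom (γ ≫ b₀) ψ (by
    show g.map (γ ≫ b₀) ≫ a'.obj.iso.hom = i ≫ f.map ψ
    rw [← e, ← Category.assoc i, hi]
    simp [β])
  haveI : 𝒵.p.IsHomLift u Φ.hom.fst := hγ
  haveI : 𝒵.p.IsHomLift u Ψ.hom.fst := inferInstanceAs (𝒵.p.IsHomLift u (γ ≫ b₀))
  exact ⟨o, Φ, Ψ, isHomLift_of_fst u Φ, isHomLift_of_fst u Ψ, rfl⟩

/-- The base change of a gerbe is a gerbe. -/
lemma isGerbeOver_fpFst (h : IsGerbeOver J F) : IsGerbeOver J (fpFst G F) :=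
  ⟨locSurjObj_fpFst F G h.1, locSurjHom_fpFst F G h.2⟩

/-- Two-cartesian squares. -/
lemma isGerbeOver_of_isTwoCartOver [IsFibGrpd 𝒳'.p] {F' : 𝒳' ⥤ᵇ 𝒵} {G' : 𝒳' ⥤ᵇ 𝒳}
    (e : BasedFunctor.comp F' G ≅ BasedFunctor.comp G' F) (hc : IsTwoCartOver F' G' e)
    (h : IsGerbeOver J F) : IsGerbeOver J F' := by
  haveI : IsFibGrpd (fp G F).p := isFibGrpd_fp
  exact isGerbeOver_comp (isGerbeOver_of_isEquivOver hc) (isGerbeOver_fpFst h)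

/-- Descent along a two-cartesian square. -/
lemma isGerbeOver_of_isTwoCartOver_of_locSurjObj [IsFibGrpd 𝒳'.p] {F' : 𝒳' ⥤ᵇ 𝒵} {G' : 𝒳' ⥤ᵇ 𝒳}
    (e : BasedFunctor.comp F' G ≅ BasedFunctor.comp G' F) (hc : IsTwoCartOver F' G' e)
    (hG : LocSurjObj J G) (h : IsGerbeOver J F') : IsGerbeOver J F := by
  haveI : IsFibGrpd (fp G F).p := isFibGrpd_fp
  obtain ⟨K, ⟨α⟩, ⟨β⟩⟩ := hc
  have hK : IsEquivOver K := ⟨_, ⟨β⟩, ⟨α⟩⟩
  refine isGerbeOver_of_fpFst hG ?_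
  exact isGerbeOver_of_iso
    (BasedNatIso.mkNatIso (Functor.isoWhiskerRight ((BasedNatTrans.forgetful _ _).mapIso β) (fpFst G F).toFunctor)
      (fun w => (BasedCategory.whiskerRight β.hom (fpFst G F)).isHomLift' w) :
      BasedFunctor.comp K F' ≅ fpFst G F)
    (isGerbeOver_comp (isGerbeOver_of_isEquivOver hK) h)

end Fp

end GerbeLib
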