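import Groth.Agent.GerbeLib.Glue
import Mathlib.Algebra.Category.Grp.Limits
import Mathlib.CategoryTheory.Sites.Whiskering

/-! The band of an abelian gerbe. -/

set_option autoImplicit false
set_option linter.all false
set_option backward.isDefEq.respectTransparency false
set_option backward.isDefEq.respectTransparency.types false

universe v u

open CategoryTheory FibCat FibLib AlgStLib Gerb Opposite
open CategoryTheory.Functor (Fiber IsStronglyCartesian)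

namespace GerbeLib

variable {C : Type u} [Category.{v} C] {J : GrothendieckTopology C} {𝒮 : BasedCategory.{v, max u v} C}

/-- Compatible families of automorphisms over the objects over `U`. -/
def bandGrp (𝒮 : BasedCategory.{v, max u v} C) (U : C) :
    Subgroup ((z : 𝒮.obj) → (𝒮.p.obj z ⟶ U) → AutO z) where
  carrier := {γ | ∀ ⦃z' z : 𝒮.obj⦄ (a : z' ⟶ z) (t : 𝒮.p.obj z ⟶ U),
    (γ z' (𝒮.p.map a ≫ t)).hom.1 ≫ a = a ≫ (γ z t).hom.1}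
  one_mem' := fun z' z a t => by
    show 𝟙 z' ≫ a = a ≫ 𝟙 z
    simp
  mul_mem' := fun {γ δ} hγ hδ z' z a t => by
    show ((δ z' _).hom.1 ≫ (γ z' _).hom.1) ≫ a = a ≫ (δ z t).hom.1 ≫ (γ z t).hom.1
    rw [Category.assoc, hγ a t, reassoc_of% (hδ a t)]
  inv_mem' := fun {γ} hγ z' z a t => by
    show (γ z' _).inv.1 ≫ a = a ≫ (γ z t).inv.1
    have h1 : (γ z' (𝒮.p.map a ≫ t)).inv.1 ≫ (γ z' (𝒮.p.map a ≫ t)).hom.1 = 𝟙 z' :=
      congrArg Subtype.val (γ z' (𝒮.p.map a ≫ t)).inv_hom_id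
    have h2 : (γ z t).hom.1 ≫ (γ z t).inv.1 = 𝟙 z := congrArg Subtype.val (γ z t).hom_inv_id
    calc (γ z' _).inv.1 ≫ a = (γ z' _).inv.1 ≫ a ≫ (γ z t).hom.1 ≫ (γ z t).inv.1 := by rw [h2, Category.comp_id]
      _ = a ≫ (γ z t).inv.1 := by rw [← reassoc_of% (hγ a t), reassoc_of% h1]

variable (𝒮) in
/-- The band as a presheaf of groups. -/
noncomputable def band : Cᵒᵖ ⥤ GrpCat.{max u v} where
  obj U := GrpCat.of (bandGrp 𝒮 U.unop)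
  map {U V} f := GrpCat.ofHom
    { toFun := fun γ => ⟨fun z t => γ.1 z (t ≫ f.unop), fun z' z a t => by
        have := γ.2 a (t ≫ f.unop)
        rwa [← Category.assoc] at this⟩
      map_one' := rfl
      map_mul' := fun _ _ => rfl }
  map_id U := by
    refine GrpCat.ext fun γ => ?_
    refine Subtype.ext (funext fun z => funext fun t => ?_)
    show γ.1 z (t ≫ 𝟙 _) = γ.1 z t
    rw [Category.comp_id]
  map_comp {U V W} f g := by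
    refine GrpCat.ext fun γ => ?_
    refine Subtype.ext (funext fun z => funext fun t => ?_)
    show γ.1 z (t ≫ g.unop ≫ f.unop) = γ.1 z ((t ≫ g.unop) ≫ f.unop)
    rw [Category.assoc]

lemma autO_ext {z : 𝒮.obj} {α β : AutO z} (h : α.hom.1 = β.hom.1) : α = β :=
  Aut.ext (Fiber.hom_ext h)

variable [IsFibGrpd 𝒮.p] (h𝒮 : IsGerbe J 𝒮) (hcomm : ∀ (z : 𝒮.obj) (α β : AutO z), α * β = β * α)

lemma exists_pullAut {x z : 𝒮.obj} (α : AutO x) (ψ : z ⟶ x) :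
    ∃ β : AutO z, β.hom.1 ≫ ψ = ψ ≫ α.hom.1 := by
  haveI : 𝒮.p.IsHomLift (𝒮.p.map ψ) ψ := IsHomLift.map 𝒮.p ψ
  have h := isHomLift_comp_id 𝒮.p (𝒮.p.map ψ) ψ α.hom.1 inferInstance α.hom.2
  obtain ⟨i, hi, e⟩ := exists_vert 𝒮.p (𝒮.p.map ψ) (ψ ≫ α.hom.1) ψ h inferInstance
  exact ⟨FibLib.fiberIso 𝒮.p (a := fib z) (b := fib z) i hi, e⟩

include hcomm in
lemma pullAut_unique {x z : 𝒮.obj} (α : AutO x) (ψ ψ' : z ⟶ x) (hψ : 𝒮.p.map ψ = 𝒮.p.map ψ')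
    (β β' : AutO z) (h : β.hom.1 ≫ ψ = ψ ≫ α.hom.1) (h' : β'.hom.1 ≫ ψ' = ψ' ≫ α.hom.1) : β = β' := by
  haveI : 𝒮.p.IsHomLift (𝒮.p.map ψ) ψ := IsHomLift.map 𝒮.p ψ
  haveI : 𝒮.p.IsHomLift (𝒮.p.map ψ) ψ' := hψ ▸ IsHomLift.map 𝒮.p ψ'
  haveI : 𝒮.p.IsStronglyCartesian (𝒮.p.map ψ) ψ := FibLib.isStronglyCartesian_of_isFibGrpd (p := 𝒮.p) _ _
  obtain ⟨a, ha, ea⟩ := exists_vert 𝒮.p (𝒮.p.map ψ) ψ' ψ inferInstance inferInstance
  let A : AutO z := FibLib.fiberIso 𝒮.p (a := fib z) (b := fib z) a ha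
  have hc : β.hom.1 ≫ a.hom = a.hom ≫ β.hom.1 := congrArg (fun t : AutO z => t.hom.1) (hcomm z A β)
  haveI := β.hom.2
  haveI := β'.hom.2
  haveI := ha
  have : β'.hom.1 ≫ a.hom = β.hom.1 ≫ a.hom := by
    haveI : 𝒮.p.IsHomLift (𝟙 (𝒮.p.obj z)) (β'.hom.1 ≫ a.hom) := isHomLift_id_comp _ _ _ _ β'.hom.2 ha
    haveI : 𝒮.p.IsHomLift (𝟙 (𝒮.p.obj z)) (β.hom.1 ≫ a.hom) := isHomLift_id_comp _ _ _ _ β.hom.2 ha
    refine IsStronglyCartesian.ext 𝒮.p (𝒮.p.map ψ) ψ (𝟙 (𝒮.p.obj z)) ?_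
    rw [Category.assoc, ea, h', hc, Category.assoc, h, reassoc_of% ea]
  exact (autO_ext ((cancel_mono a.hom).mp this)).symm

lemma cancel_lift {w z' z : 𝒮.obj} (a : z' ⟶ z) (r s : w ⟶ z') (hrs : 𝒮.p.map r = 𝒮.p.map s)
    (e : r ≫ a = s ≫ a) : r = s := by
  haveI : 𝒮.p.IsHomLift (𝒮.p.map a) a := IsHomLift.map 𝒮.p a
  haveI : 𝒮.p.IsStronglyCartesian (𝒮.p.map a) a := FibLib.isStronglyCartesian_of_isFibGrpd (p := 𝒮.p) _ _
  haveI : 𝒮.p.IsHomLift (𝒮.p.map r) r := IsHomLift.map 𝒮.p r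
  haveI : 𝒮.p.IsHomLift (𝒮.p.map r) s := hrs ▸ IsHomLift.map 𝒮.p s
  exact IsStronglyCartesian.ext 𝒮.p (𝒮.p.map a) a (𝒮.p.map r) e

lemma map_aut {z : 𝒮.obj} (β : AutO z) : 𝒮.p.map β.hom.1 = 𝟙 _ := by
  have := @IsHomLift.fac' _ _ _ _ 𝒮.p _ _ _ _ (𝟙 (𝒮.p.obj z)) β.hom.1 β.hom.2
  simp only [eqToHom_refl, Category.comp_id, Category.id_comp] at this
  exact this

lemma aut_of_vert {z : 𝒮.obj} (δ : z ⟶ z) (h : 𝒮.p.IsHomLift (𝟙 (𝒮.p.obj z)) δ) :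
    ∃ β : AutO z, β.hom.1 = δ := by
  haveI := h
  haveI : IsIso δ := isIso_of_isHomLift (p := 𝒮.p) (𝟙 (𝒮.p.obj z)) δ
  exact ⟨FibLib.fiberIso 𝒮.p (a := fib z) (b := fib z) (asIso δ) h, rfl⟩

include h𝒮 in
lemma cover_pair (x z : 𝒮.obj) (t : 𝒮.p.obj z ⟶ 𝒮.p.obj x) :
    ∃ R ∈ J (𝒮.p.obj z), ∀ ⦃V : C⦄ (f : V ⟶ 𝒮.p.obj z), R.arrows f → ∀ ⦃w : 𝒮.obj⦄ (φ : w ⟶ z),
      𝒮.p.IsHomLift f φ → ∃ ψ : w ⟶ x, 𝒮.p.map ψ = 𝒮.p.map φ ≫ t := by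
  obtain ⟨x', π, hπ⟩ := FibLib.exists_lift 𝒮.p (a := x) rfl t
  haveI := hπ
  obtain ⟨R, hR, hl⟩ := exists_local_iso h𝒮.2 z x' rfl (IsHomLift.domain_eq 𝒮.p t π)
  refine ⟨R, hR, fun V f hf w φ hφ => ?_⟩
  obtain ⟨w₀, φ₀, ψ₀, hφ₀, hψ₀⟩ := hl f hf
  obtain ⟨i, hi, -⟩ := exists_vert 𝒮.p f φ φ₀ hφ hφ₀
  haveI := hψ₀
  haveI := hi
  haveI := hφ
  haveI : 𝒮.p.IsHomLift (f ≫ t) (i.hom ≫ ψ₀ ≫ π) := isHomLift_id_comp _ _ _ _ hi inferInstance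
  refine ⟨i.hom ≫ ψ₀ ≫ π, ?_⟩
  rw [IsHomLift.fac' 𝒮.p (f ≫ t) (i.hom ≫ ψ₀ ≫ π), IsHomLift.fac' 𝒮.p f φ]
  simp

include h𝒮 in
lemma eval_injective {U : C} (γ δ : bandGrp 𝒮 U) (x : 𝒮.obj) (hx : 𝒮.p.obj x = U)
    (h : γ.1 x (eqToHom hx) = δ.1 x (eqToHom hx)) : γ = δ := by
  subst hx
  refine Subtype.ext (funext fun z => funext fun t => autO_ext ?_)
  obtain ⟨R, hR, hl⟩ := cover_pair h𝒮 x z t
  haveI := (γ.1 z t).hom.2
  haveI := (δ.1 z t).hom.2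
  refine @StkTopLib.vert_ext _ _ _ J (AlgStLib.isPrestack_of_isStack h𝒮.1) (𝒮.p.obj z) _ _ (γ.1 z t).hom.1
    (δ.1 z t).hom.1 (γ.1 z t).hom.2 (δ.1 z t).hom.2 _ hR fun V f hf => ?_
  obtain ⟨w, φ, hφ⟩ := FibLib.exists_lift 𝒮.p (a := z) rfl f
  obtain ⟨ψ, hψ⟩ := hl f hf φ hφ
  refine ⟨w, φ, hφ, ?_⟩
  have eq_w : γ.1 w (𝒮.p.map φ ≫ t) = δ.1 w (𝒮.p.map φ ≫ t) := by
    refine autO_ext (cancel_lift ψ _ _ ((map_aut _).trans (map_aut _).symm) ?_)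
    rw [← hψ]
    have h1 := γ.2 ψ (𝟙 _)
    have h2 := δ.2 ψ (𝟙 _)
    rw [Category.comp_id] at h1 h2
    rw [h1, h2]
    exact congrArg (fun g : AutO x => ψ ≫ g.hom.1) (by simpa using h)
  rw [← γ.2 φ t, ← δ.2 φ t, eq_w]

include h𝒮 hcomm in
lemma eval_surjective (x : 𝒮.obj) (α : AutO x) :
    ∃ γ : bandGrp 𝒮 (𝒮.p.obj x), γ.1 x (𝟙 _) = α := by
  have hpre := AlgStLib.isPrestack_of_isStack h𝒮.1
  let T : ∀ (z : 𝒮.obj) (t : 𝒮.p.obj z ⟶ 𝒮.p.obj x), Sieve (𝒮.p.obj z) := fun z t =>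
    { arrows := fun V f => ∀ ⦃w : 𝒮.obj⦄ (φ : w ⟶ z), 𝒮.p.IsHomLift f φ →
        ∃ ψ : w ⟶ x, 𝒮.p.map ψ = 𝒮.p.map φ ≫ t
      downward_closed := fun {V W f} hf h => by
        intro w φ hφ
        obtain ⟨v, π, hπ⟩ := FibLib.exists_lift 𝒮.p (a := z) rfl f
        obtain ⟨ψ, hψ⟩ := hf π hπ
        haveI := hπ
        haveI := hφ
        haveI : 𝒮.p.IsStronglyCartesian f π := FibLib.isStronglyCartesian_of_isFibGrpd (p := 𝒮.p) _ _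
        let χ := IsStronglyCartesian.map 𝒮.p f π (g := h) rfl φ
        have e : χ ≫ π = φ := IsStronglyCartesian.fac 𝒮.p f π rfl φ
        exact ⟨χ ≫ ψ, by rw [Functor.map_comp, hψ, ← e, Functor.map_comp, Category.assoc]⟩ }
  have hT : ∀ z t, T z t ∈ J (𝒮.p.obj z) := fun z t => by
    obtain ⟨R, hR, hl⟩ := cover_pair h𝒮 x z t
    exact J.superset_covering (fun V f hf w φ hφ => hl f hf φ hφ) hR
  have ex : ∀ (z : 𝒮.obj) (t : 𝒮.p.obj z ⟶ 𝒮.p.obj x) ⦃V : C⦄ ⦃w : 𝒮.obj⦄ (f : V ⟶ 𝒮.p.obj z),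
      (T z t).arrows f → ∀ φ : w ⟶ z, 𝒮.p.IsHomLift f φ →
        ∃ (β : AutO w) (ψ : w ⟶ x), 𝒮.p.map ψ = 𝒮.p.map φ ≫ t ∧ β.hom.1 ≫ ψ = ψ ≫ α.hom.1 :=
    fun z t V w f hf φ hφ => by
      obtain ⟨ψ, hψ⟩ := hf φ hφ
      obtain ⟨β, hβ⟩ := exists_pullAut α ψ
      exact ⟨β, ψ, hψ, hβ⟩
  choose β ψ hψ hβ using ex
  choose δ hδ eδ using fun z t => vert_glue hpre (a := z) (b := z) rfl rfl (hT z t)
    (fun V w f hf φ hφ => (β z t f hf φ hφ).hom.1 ≫ φ)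
    (fun V w f hf φ hφ => by
      haveI := hφ
      have hw : 𝒮.p.obj w = V := IsHomLift.domain_eq 𝒮.p f φ
      subst hw
      exact isHomLift_id_comp _ _ _ _ (β z t f hf φ hφ).hom.2 hφ)
    (fun V W w w' g f f' hf hf' e φ hφ χ hχ φ' hφ' eφ => by
      subst eφ
      rw [← Category.assoc, ← Category.assoc χ]
      congr 1
      obtain ⟨β₀, hβ₀⟩ := exists_pullAut α (χ ≫ ψ z t f hf φ hφ)
      have e1 : β z t f' hf' _ hφ' = β₀ := pullAut_unique hcomm α _ _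
        (by rw [hψ, Functor.map_comp, Functor.map_comp, hψ, Category.assoc]) _ _ (hβ z t f' hf' _ hφ') hβ₀
      rw [e1]
      refine cancel_lift (ψ z t f hf φ hφ) _ _ (by simp [map_aut]) ?_
      rw [Category.assoc, hβ₀, Category.assoc, Category.assoc, hβ])
  choose A hA using fun z t => aut_of_vert (δ z t) (hδ z t)
  have char : ∀ (z : 𝒮.obj) (t : 𝒮.p.obj z ⟶ 𝒮.p.obj x) ⦃w : 𝒮.obj⦄ (φ : w ⟶ z) (B : AutO w) (Ψ : w ⟶ x),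
      (T z t).arrows (𝒮.p.map φ) → 𝒮.p.map Ψ = 𝒮.p.map φ ≫ t → B.hom.1 ≫ Ψ = Ψ ≫ α.hom.1 →
        φ ≫ (A z t).hom.1 = B.hom.1 ≫ φ := by
    intro z t w φ B Ψ hf hΨ hB
    rw [hA, eδ z t _ hf φ (IsHomLift.map 𝒮.p φ),
      pullAut_unique hcomm α _ _ ((hψ z t _ hf φ _).trans hΨ.symm) _ _ (hβ z t _ hf φ _) hB]
  refine ⟨⟨A, fun z' z a t => ?_⟩, autO_ext ?_⟩
  · haveI : 𝒮.p.IsHomLift (𝒮.p.map a) a := IsHomLift.map 𝒮.p a
    have h2 : 𝒮.p.IsHomLift (𝒮.p.map a) (a ≫ (A z t).hom.1) := isHomLift_comp_id _ _ _ _ inferInstance (A z t).hom.2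
    obtain ⟨i, hi, ei⟩ := exists_vert 𝒮.p (𝒮.p.map a) (a ≫ (A z t).hom.1) a h2 inferInstance
    rw [← ei]
    congr 1
    haveI := hi
    haveI := (A z' (𝒮.p.map a ≫ t)).hom.2
    refine @StkTopLib.vert_ext _ _ _ J hpre (𝒮.p.obj z') _ _ _ _ (A z' _).hom.2 hi _
      (J.intersection_covering (hT z' (𝒮.p.map a ≫ t)) (J.pullback_stable (𝒮.p.map a) (hT z t))) fun V f hf => ?_
    obtain ⟨w, φ, hφ⟩ := FibLib.exists_lift 𝒮.p (a := z') rfl f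
    obtain ⟨Ψ, hΨ⟩ := hf.1 φ hφ
    obtain ⟨B, hB⟩ := exists_pullAut α Ψ
    haveI := hφ
    have hw : 𝒮.p.obj w = V := IsHomLift.domain_eq 𝒮.p f φ
    subst hw
    have hf' : f = 𝒮.p.map φ := IsHomLift.eq_of_isHomLift 𝒮.p f φ
    subst hf'
    refine ⟨w, φ, hφ, ?_⟩
    rw [char z' _ φ B Ψ hf.1 hΨ hB]
    refine cancel_lift a _ _ (by simp [map_aut, (show 𝒮.p.map i.hom = 𝟙 _ by simpa using IsHomLift.fac' 𝒮.p (𝟙 (𝒮.p.obj z')) i.hom)]) ?_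
    rw [Category.assoc, Category.assoc, ei, ← Category.assoc φ a,
      char z t (φ ≫ a) B Ψ (by rw [Functor.map_comp]; exact hf.2) (by rw [hΨ, Functor.map_comp, Category.assoc]) hB]
  · haveI := α.hom.2
    refine @StkTopLib.vert_ext _ _ _ J hpre (𝒮.p.obj x) _ _ _ _ (A x (𝟙 _)).hom.2 α.hom.2 _ (hT x (𝟙 _))
      fun V f hf => ?_
    obtain ⟨w, φ, hφ⟩ := FibLib.exists_lift 𝒮.p (a := x) rfl f
    haveI := hφ
    have hw : 𝒮.p.obj w = V := IsHomLift.domain_eq 𝒮.p f φ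
    subst hw
    have hf' : f = 𝒮.p.map φ := IsHomLift.eq_of_isHomLift 𝒮.p f φ
    subst hf'
    obtain ⟨B, hB⟩ := exists_pullAut α φ
    refine ⟨w, φ, hφ, ?_⟩
    rw [char x (𝟙 _) φ B φ hf (Category.comp_id _).symm hB, hB]

include h𝒮 in
theorem isSheaf_band : Presheaf.IsSheaf J (band 𝒮) := by
  have hpre := AlgStLib.isPrestack_of_isStack h𝒮.1
  rw [Presheaf.isSheaf_iff_isSheaf_forget J (band 𝒮) (forget GrpCat), isSheaf_iff_isSheaf_of_type]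
  intro U R hR ξ hξ
  have cg : ∀ {W : C} {f f' : W ⟶ U} (e : f = f') (hf : R.arrows f) (hf' : R.arrows f') (w : 𝒮.obj)
      (s : 𝒮.p.obj w ⟶ W), (ξ f hf).1 w s = (ξ f' hf').1 w s := by
    rintro W f _ rfl hf hf' w s; rfl
  have ex : ∀ (z : 𝒮.obj) (t : 𝒮.p.obj z ⟶ U), ∃ A : AutO z, ∀ ⦃w : 𝒮.obj⦄ (φ : w ⟶ z)
      (hf : R.arrows (𝒮.p.map φ ≫ t)), φ ≫ A.hom.1 = ((ξ _ hf).1 w (𝟙 _)).hom.1 ≫ φ := by
    intro z t
    have key : ∀ {W W' : C} (k : W' ⟶ W) (f : W ⟶ U) (f' : W' ⟶ U) (hf : R.arrows f) (hf' : R.arrows f')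
        (e : k ≫ f = f') (w : 𝒮.obj) (s : 𝒮.p.obj w ⟶ W'), (ξ f' hf').1 w s = (ξ f hf).1 w (s ≫ k) := by
      intro W W' k f f' hf hf' e w s
      have := hξ (𝟙 W') k hf' hf (by rw [Category.id_comp, e])
      have h2 : (ξ f' hf').1 w (s ≫ 𝟙 W') = (ξ f hf).1 w (s ≫ k) :=
        congrArg (fun γ : bandGrp 𝒮 W' => γ.1 w s) this
      rwa [Category.comp_id] at h2
    obtain ⟨δ, hδ, eδ⟩ := vert_glue hpre (a := z) (b := z) rfl rfl (J.pullback_stable t hR)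
      (fun V w f hf φ hφ => ((ξ (f ≫ t) hf).1 w (eqToHom (@IsHomLift.domain_eq _ _ _ _ _ _ _ _ _ f φ hφ))).hom.1 ≫ φ)
      (fun V w f hf φ hφ => by
        have hw : 𝒮.p.obj w = V := @IsHomLift.domain_eq _ _ _ _ _ _ _ _ _ f φ hφ
        subst hw
        exact isHomLift_id_comp _ _ _ _ ((ξ (f ≫ t) hf).1 w _).hom.2 hφ)
      (fun V W w w' g f f' hf hf' e φ hφ χ hχ φ' hφ' eφ => by
        subst eφ
        haveI := hχ
        rw [← Category.assoc, ← Category.assoc χ]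
        congr 1
        rw [key g (f ≫ t) (f' ≫ t) hf hf' (by rw [← Category.assoc, e]) w' _]
        have e' : 𝒮.p.map χ = eqToHom (IsHomLift.domain_eq 𝒮.p g χ) ≫ g ≫
            eqToHom (IsHomLift.codomain_eq 𝒮.p g χ).symm := IsHomLift.fac' 𝒮.p g χ
        rw [← (ξ (f ≫ t) hf).2 χ _, e']
        simp)
    obtain ⟨A, hA⟩ := aut_of_vert δ hδ
    refine ⟨A, fun w φ hf => ?_⟩
    rw [hA, eδ (𝒮.p.map φ) hf φ (IsHomLift.map 𝒮.p φ)]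
    simp
  choose A hA using ex
  have nat : A ∈ bandGrp 𝒮 U := by
    intro z' z a t
    haveI : 𝒮.p.IsHomLift (𝒮.p.map a) a := IsHomLift.map 𝒮.p a
    obtain ⟨i, hi, ei⟩ := exists_vert 𝒮.p (𝒮.p.map a) (a ≫ (A z t).hom.1) a
      (isHomLift_comp_id _ _ _ _ inferInstance (A z t).hom.2) inferInstance
    rw [← ei]
    congr 1
    haveI := hi
    refine @StkTopLib.vert_ext _ _ _ J hpre (𝒮.p.obj z') _ _ _ _ (A z' _).hom.2 hi _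
      (J.pullback_stable (𝒮.p.map a ≫ t) hR) fun V f hf => ?_
    obtain ⟨w, φ, hφ⟩ := FibLib.exists_lift 𝒮.p (a := z') rfl f
    haveI := hφ
    have hw : 𝒮.p.obj w = V := IsHomLift.domain_eq 𝒮.p f φ
    subst hw
    have hf' : f = 𝒮.p.map φ := IsHomLift.eq_of_isHomLift 𝒮.p f φ
    subst hf'
    refine ⟨w, φ, hφ, ?_⟩
    rw [hA z' _ φ hf]
    refine cancel_lift a _ _ (by simp [map_aut, (show 𝒮.p.map i.hom = 𝟙 _ by simpa using IsHomLift.fac' 𝒮.p (𝟙 (𝒮.p.obj z')) i.hom)]) ?_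
    rw [Category.assoc, Category.assoc, ei, ← Category.assoc φ a,
      hA z t (φ ≫ a) (by rw [Functor.map_comp, Category.assoc]; exact hf)]
    congr 3
    exact cg (by rw [Functor.map_comp, Category.assoc]) _ _ _ _
  refine ⟨⟨A, nat⟩, fun V f hf => Subtype.ext (funext fun z => funext fun t => autO_ext ?_), fun δ hδ => ?_⟩
  · show (A z (t ≫ f)).hom.1 = ((ξ f hf).1 z t).hom.1
    have h := hA z (t ≫ f) (𝟙 z) (by simpa using R.downward_closed hf t)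
    rw [Category.id_comp, Category.comp_id] at h
    rw [h]
    have := hξ (𝟙 (𝒮.p.obj z)) t (show R.arrows (𝒮.p.map (𝟙 z) ≫ t ≫ f) by simpa using R.downward_closed hf t) hf
      (by simp)
    have h2 : (ξ (𝒮.p.map (𝟙 z) ≫ t ≫ f) (by simpa using R.downward_closed hf t)).1 z (𝟙 _ ≫ 𝟙 _) =
        (ξ f hf).1 z (𝟙 _ ≫ t) := congrArg (fun γ : bandGrp 𝒮 (𝒮.p.obj z) => γ.1 z (𝟙 _)) this
    rw [show 𝟙 (𝒮.p.obj z) ≫ t = t from Category.id_comp t] at h2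
    have e : (𝟙 (𝒮.p.obj z) ≫ 𝟙 (𝒮.p.obj z)) = 𝟙 _ := Category.id_comp _
    exact congrArg (fun g : AutO z => g.hom.1) ((congrArg _ e.symm).trans h2)
  · refine Subtype.ext (funext fun z => funext fun t => autO_ext ?_)
    refine @StkTopLib.vert_ext _ _ _ J hpre (𝒮.p.obj z) _ _ _ _ (δ.1 z t).hom.2 (A z t).hom.2 _
      (J.pullback_stable t hR) fun V f hf => ?_
    obtain ⟨w, φ, hφ⟩ := FibLib.exists_lift 𝒮.p (a := z) rfl f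
    haveI := hφ
    have hw : 𝒮.p.obj w = V := IsHomLift.domain_eq 𝒮.p f φ
    subst hw
    have hf' : f = 𝒮.p.map φ := IsHomLift.eq_of_isHomLift 𝒮.p f φ
    subst hf'
    refine ⟨w, φ, hφ, ?_⟩
    rw [hA z t φ hf, ← δ.2 φ t]
    congr 1
    have h2 : (δ.1 w (𝟙 _ ≫ 𝒮.p.map φ ≫ t)).hom.1 = ((ξ (𝒮.p.map φ ≫ t) hf).1 w (𝟙 _)).hom.1 :=
      congrArg (fun γ : bandGrp 𝒮 (𝒮.p.obj w) => (γ.1 w (𝟙 _)).hom.1) (hδ _ hf)
    rwa [Category.id_comp] at h2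

include h𝒮 hcomm in
theorem exists_banding : ∃ G : Sheaf J GrpCat.{max u v},
    (∀ (U : C) (a b : G.obj.obj (op U)), a * b = b * a) ∧ Nonempty (Banding 𝒮 G.obj) := by
  refine ⟨⟨band 𝒮, isSheaf_band h𝒮⟩, fun U a b => Subtype.ext (funext fun z => funext fun t => hcomm z _ _), ⟨?_⟩⟩
  let ev : ∀ x : 𝒮.obj, bandGrp 𝒮 (𝒮.p.obj x) →* AutO x := fun x =>
    { toFun := fun γ => γ.1 x (𝟙 _)
      map_one' := rfl
      map_mul' := fun _ _ => rfl }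
  have hev : ∀ x, Function.Bijective (ev x) := fun x =>
    ⟨fun γ δ h => eval_injective h𝒮 γ δ x rfl h, eval_surjective h𝒮 hcomm x⟩
  refine
    { iso := fun x => MulEquiv.ofBijective (ev x) (hev x)
      natural := fun {x' x} φ γ => ?_ }
  show (γ.1 x' (𝟙 _ ≫ 𝒮.p.map φ)).hom.1 ≫ φ = φ ≫ (γ.1 x (𝟙 _)).hom.1
  have := γ.2 φ (𝟙 _)
  rw [Category.comp_id] at this
  rwa [Category.id_comp]

end GerbeLib
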