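import Groth.Agent.GerbeLib.Glue

/-! Fibrewise isomorphisms of an endofunctor of a gerbe with a global object. -/

set_option autoImplicit false
set_option linter.all false
set_option backward.isDefEq.respectTransparency false
set_option backward.isDefEq.respectTransparency.types false

universe v u v₁ u₁

open CategoryTheory FibCat FibLib AlgStLib Gerb
open CategoryTheory.Functor (Fiber IsStronglyCartesian)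

namespace GerbeLib

variable {C : Type u} [Category.{v} C] {J : GrothendieckTopology C} {𝒳 : BasedCategory.{v₁, u₁} C}
  [IsFibGrpd 𝒳.p] (Φ : 𝒳 ⥤ᵇ 𝒳) {x : 𝒳.obj} (g : Φ.obj x ⟶ x)

/-- The descended morphism, on one object over the cover. -/
def ConjVal {U V : C} {y z : 𝒳.obj} (f : V ⟶ U) (φ : z ⟶ Φ.obj y) (t : z ⟶ y) : Prop :=
  ∃ (w : 𝒳.obj) (π : w ⟶ y) (c : w ⟶ x) (g' : Φ.obj w ⟶ w) (i : z ⟶ Φ.obj w),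
    𝒳.p.IsHomLift f π ∧ 𝒳.p.IsHomLift (𝟙 V) g' ∧ Φ.map c ≫ g = g' ≫ c ∧ 𝒳.p.IsHomLift (𝟙 V) i ∧
      i ≫ Φ.map π = φ ∧ t = i ≫ g' ≫ π

variable {Φ g}

lemma exists_fill (hg : 𝒳.p.IsHomLift (𝟙 (𝒳.p.obj x)) g) {V : C} {w : 𝒳.obj} (hw : 𝒳.p.obj w = V) (c : w ⟶ x) :
    ∃ g' : Φ.obj w ⟶ w, 𝒳.p.IsHomLift (𝟙 V) g' ∧ Φ.map c ≫ g = g' ≫ c := by
  subst hw
  haveI : 𝒳.p.IsHomLift (𝒳.p.map c) c := IsHomLift.map 𝒳.p c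
  have h : 𝒳.p.IsHomLift (𝒳.p.map c) (Φ.map c ≫ g) :=
    isHomLift_comp_id _ _ _ _ (Φ.preserves_isHomLift _ c) hg
  obtain ⟨i, hi, e⟩ := exists_vert 𝒳.p (𝒳.p.map c) (Φ.map c ≫ g) c h inferInstance
  exact ⟨i.hom, hi, e.symm⟩

lemma eq_of_comp_eq {V : C} {a w b : 𝒳.obj} (c : w ⟶ b) (s t : a ⟶ w) (hs : 𝒳.p.IsHomLift (𝟙 V) s)
    (ht : 𝒳.p.IsHomLift (𝟙 V) t) (e : s ≫ c = t ≫ c) : s = t := by
  haveI := hs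
  haveI := ht
  have hw : 𝒳.p.obj w = V := IsHomLift.codomain_eq 𝒳.p (𝟙 V) s
  subst hw
  haveI : 𝒳.p.IsHomLift (𝒳.p.map c) c := IsHomLift.map 𝒳.p c
  haveI : 𝒳.p.IsStronglyCartesian (𝒳.p.map c) c := FibLib.isStronglyCartesian_of_isFibGrpd (p := 𝒳.p) _ _
  exact IsStronglyCartesian.ext 𝒳.p (𝒳.p.map c) c (𝟙 (𝒳.p.obj w)) e

variable (hg : 𝒳.p.IsHomLift (𝟙 (𝒳.p.obj x)) g) (hu : ∀ U : C, Subsingleton (U ⟶ 𝒳.p.obj x))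
  (hconj : ∀ (w : 𝒳.obj) (c : w ⟶ x) (g' : Φ.obj w ⟶ w), 𝒳.p.IsHomLift (𝟙 (𝒳.p.obj w)) g' →
    Φ.map c ≫ g = g' ≫ c → ∀ α : Gerb.AutO w, Φ.map α.hom.1 ≫ g' = g' ≫ α.hom.1)

include hu hconj in
lemma conjVal_unique {U V : C} {y z : 𝒳.obj} (f : V ⟶ U) (φ : z ⟶ Φ.obj y) {t t' : z ⟶ y}
    (h : ConjVal Φ g f φ t) (h' : ConjVal Φ g f φ t') : t = t' := by
  obtain ⟨w, π, c, g₁, i, hπ, hg₁, e₁, hi, ei, rfl⟩ := h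
  obtain ⟨w', π', c', g₂, i', hπ', hg₂, e₂, hi', ei', rfl⟩ := h'
  obtain ⟨j, hj, ej⟩ := exists_vert 𝒳.p f π π' hπ hπ'
  have hw : 𝒳.p.obj w = V := @IsHomLift.domain_eq _ _ _ _ _ _ _ _ _ f π hπ
  subst hw
  haveI : 𝒳.p.IsHomLift (𝒳.p.map c) c := IsHomLift.map 𝒳.p c
  haveI : 𝒳.p.IsHomLift (𝒳.p.map (j.hom ≫ c')) (j.hom ≫ c') := IsHomLift.map 𝒳.p _
  have hc : 𝒳.p.IsHomLift (𝒳.p.map c) (j.hom ≫ c') := by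
    rw [@Subsingleton.elim _ (hu _) (𝒳.p.map c) (𝒳.p.map (j.hom ≫ c'))]; infer_instance
  obtain ⟨a, ha, ea⟩ := exists_vert 𝒳.p (𝒳.p.map c) (j.hom ≫ c') c hc inferInstance
  have hα := hconj w c g₁ hg₁ e₁ (FibLib.fiberIso 𝒳.p (a := fib w) (b := fib w) a ha)
  have key : g₁ ≫ j.hom = Φ.map j.hom ≫ g₂ := by
    haveI := hj
    refine eq_of_comp_eq c' _ _ (isHomLift_id_comp _ _ _ _ hg₁ hj)
      (isHomLift_id_comp _ _ _ _ (Φ.preserves_isHomLift (𝟙 (𝒳.p.obj w)) j.hom) hg₂) ?_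
    calc (g₁ ≫ j.hom) ≫ c' = (g₁ ≫ a.hom) ≫ c := by rw [Category.assoc, Category.assoc, ea]
      _ = (Φ.map a.hom ≫ g₁) ≫ c := congrArg (fun s => s ≫ c) hα.symm
      _ = Φ.map a.hom ≫ Φ.map c ≫ g := by rw [Category.assoc, ← e₁]
      _ = Φ.map j.hom ≫ Φ.map c' ≫ g := by
        rw [← Φ.toFunctor.map_comp_assoc, ea, Functor.map_comp, Category.assoc]
      _ = (Φ.map j.hom ≫ g₂) ≫ c' := by rw [e₂, Category.assoc]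
  have hii : i ≫ Φ.map j.hom = i' := by
    haveI := hj
    refine eq_of_comp_eq (Φ.map π') _ _ (isHomLift_id_comp _ _ _ _ hi (Φ.preserves_isHomLift _ j.hom)) hi' ?_
    rw [Category.assoc, ← Φ.toFunctor.map_comp, ej, ei, ei']
  calc i ≫ g₁ ≫ π = i ≫ (g₁ ≫ j.hom) ≫ π' := by rw [Category.assoc, ej]
    _ = (i ≫ Φ.map j.hom) ≫ g₂ ≫ π' := by rw [key]; simp only [Category.assoc]
    _ = i' ≫ g₂ ≫ π' := by rw [hii]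

include hg in
lemma conjVal_comp {U V W : C} {y z z' : 𝒳.obj} (h : W ⟶ V) (f : V ⟶ U) (f' : W ⟶ U) (e : h ≫ f = f')
    (φ : z ⟶ Φ.obj y) {t : z ⟶ y} (ht : ConjVal Φ g f φ t) (χ : z' ⟶ z) (hχ : 𝒳.p.IsHomLift h χ) :
    ConjVal Φ g f' (χ ≫ φ) (χ ≫ t) := by
  obtain ⟨w, π, c, g₁, i, hπ, hg₁, e₁, hi, ei, rfl⟩ := ht
  haveI := hπ
  obtain ⟨w', ρ, hρ⟩ := FibLib.exists_lift 𝒳.p (a := w) (IsHomLift.domain_eq 𝒳.p f π) h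
  haveI := hρ
  obtain ⟨g₂, hg₂, e₂⟩ := exists_fill (Φ := Φ) hg (IsHomLift.domain_eq 𝒳.p h ρ) (ρ ≫ c)
  obtain ⟨i', hi', ei'⟩ := exists_vert 𝒳.p h (χ ≫ i) (Φ.map ρ) (isHomLift_comp_id _ _ _ _ hχ hi)
    (Φ.preserves_isHomLift h ρ)
  have hV : 𝒳.p.obj w = V := IsHomLift.domain_eq 𝒳.p f π
  subst hV
  have key : g₂ ≫ ρ = Φ.map ρ ≫ g₁ := by
    haveI : 𝒳.p.IsHomLift (𝒳.p.map c) c := IsHomLift.map 𝒳.p c
    haveI : 𝒳.p.IsStronglyCartesian (𝒳.p.map c) c := FibLib.isStronglyCartesian_of_isFibGrpd (p := 𝒳.p) _ _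
    haveI : 𝒳.p.IsHomLift h (g₂ ≫ ρ) := isHomLift_id_comp _ _ _ _ hg₂ hρ
    haveI : 𝒳.p.IsHomLift h (Φ.map ρ ≫ g₁) := isHomLift_comp_id _ _ _ _ (Φ.preserves_isHomLift h ρ) hg₁
    refine IsStronglyCartesian.ext 𝒳.p (𝒳.p.map c) c h ?_
    rw [Category.assoc, ← e₂, Functor.map_comp, Category.assoc, e₁, Category.assoc]
  refine ⟨w', ρ ≫ π, ρ ≫ c, g₂, i'.hom, ?_, hg₂, e₂, hi', ?_, ?_⟩
  · rw [← e]; infer_instance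
  · rw [Functor.map_comp, ← Category.assoc, ei', Category.assoc, ei]
  · rw [reassoc_of% key, reassoc_of% ei']

include hg hu hconj in
/-- An endofunctor conjugate to the identity on automorphisms is fibrewise isomorphic to the identity. -/
theorem exists_fibrewise_iso (h𝒳 : IsGerbe J 𝒳) (hs : ∀ U : C, Nonempty (U ⟶ 𝒳.p.obj x)) :
    ∃ ρ : ∀ y : 𝒳.obj, Φ.obj y ⟶ y, (∀ y, IsIso (ρ y) ∧ 𝒳.p.IsHomLift (𝟙 (𝒳.p.obj y)) (ρ y)) ∧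
      (∀ (y y' : 𝒳.obj) (f : y ⟶ y'), 𝒳.p.IsHomLift (𝟙 (𝒳.p.obj y)) f → Φ.map f ≫ ρ y' = ρ y ≫ f) := by
  have hpre := AlgStLib.isPrestack_of_isStack h𝒳.1
  let T : ∀ y : 𝒳.obj, Sieve (𝒳.p.obj y) := fun y =>
    { arrows := fun V f => ∃ (w : 𝒳.obj) (π : w ⟶ y), 𝒳.p.IsHomLift f π ∧ Nonempty (w ⟶ x)
      downward_closed := fun {V W f} hf h => by
        obtain ⟨w, π, hπ, ⟨c⟩⟩ := hf
        haveI := hπ
        obtain ⟨w', ρ, hρ⟩ := FibLib.exists_lift 𝒳.p (a := w) (IsHomLift.domain_eq 𝒳.p f π) h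
        haveI := hρ
        exact ⟨w', ρ ≫ π, inferInstance, ⟨ρ ≫ c⟩⟩ }
  have hT : ∀ y, T y ∈ J (𝒳.p.obj y) := fun y => by
    obtain ⟨R, hR, hl⟩ := exists_local_hom h𝒳.2 x hs y rfl
    refine J.superset_covering (fun V f hf => ?_) hR
    obtain ⟨w, π, hπ⟩ := FibLib.exists_lift 𝒳.p (a := y) rfl f
    exact ⟨w, π, hπ, hl f hf π hπ⟩
  have ex : ∀ (y : 𝒳.obj) ⦃V : C⦄ ⦃z : 𝒳.obj⦄ (f : V ⟶ 𝒳.p.obj y), (T y).arrows f →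
      ∀ φ : z ⟶ Φ.obj y, 𝒳.p.IsHomLift f φ → ∃ t, ConjVal Φ g f φ t := by
    intro y V z f hf φ hφ
    obtain ⟨w, π, hπ, ⟨c⟩⟩ := hf
    haveI := hπ
    obtain ⟨g', hg', e⟩ := exists_fill (Φ := Φ) hg (IsHomLift.domain_eq 𝒳.p f π) c
    obtain ⟨i, hi, ei⟩ := exists_vert 𝒳.p f φ (Φ.map π) hφ (Φ.preserves_isHomLift f π)
    exact ⟨_, w, π, c, g', i.hom, hπ, hg', e, hi, ei, rfl⟩
  choose θ hθ using ex
  have hl : ∀ (y : 𝒳.obj) ⦃V z⦄ (f : V ⟶ 𝒳.p.obj y) (hf : (T y).arrows f) (φ : z ⟶ Φ.obj y)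
      (hφ : 𝒳.p.IsHomLift f φ), 𝒳.p.IsHomLift f (θ y f hf φ hφ) := by
    intro y V z f hf φ hφ
    obtain ⟨w, π, c, g', i, hπ, hg', -, hi, -, et⟩ := hθ y f hf φ hφ
    rw [et]
    exact isHomLift_id_comp _ _ _ _ hi (isHomLift_id_comp _ _ _ _ hg' hπ)
  choose ρ hρ eρ using fun y => vert_glue hpre (Φ.w_obj y) rfl (hT y) (θ y) (hl y)
    (fun V W z z' h f f' hf hf' e φ hφ χ hχ φ' hφ' eφ => by
      subst eφ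
      exact conjVal_unique hu hconj f' _ (hθ y f' hf' _ hφ') (conjVal_comp hg h f f' e φ (hθ y f hf φ hφ) χ hχ))
  have char : ∀ (y w : 𝒳.obj) {V : C} (f : V ⟶ 𝒳.p.obj y) (π : w ⟶ y) (c : w ⟶ x) (g' : Φ.obj w ⟶ w),
      𝒳.p.IsHomLift f π → 𝒳.p.IsHomLift (𝟙 V) g' → Φ.map c ≫ g = g' ≫ c →
        Φ.map π ≫ ρ y = g' ≫ π := by
    intro y w V f π c g' hπ hg' e
    haveI := hπ
    have hf : (T y).arrows f := ⟨w, π, hπ, ⟨c⟩⟩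
    rw [eρ y f hf (Φ.map π) (Φ.preserves_isHomLift f π)]
    exact conjVal_unique hu hconj f _ (hθ y f hf _ _)
      ⟨w, π, c, g', 𝟙 _, hπ, hg', e, IsHomLift.id ((Φ.w_obj w).trans (IsHomLift.domain_eq 𝒳.p f π)),
        Category.id_comp _, (Category.id_comp _).symm⟩
  refine ⟨ρ, fun y => ⟨@isIso_of_isHomLift _ _ _ _ 𝒳.p _ _ _ (𝟙 (𝒳.p.obj y)) _ _ _ (ρ y) (hρ y), hρ y⟩,
    fun y y' a ha => ?_⟩
  have hy : 𝒳.p.obj y' = 𝒳.p.obj y := @IsHomLift.codomain_eq _ _ _ _ _ _ _ _ _ (𝟙 (𝒳.p.obj y)) a ha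
  haveI := ha
  haveI hρy : 𝒳.p.IsHomLift (𝟙 (𝒳.p.obj y)) (ρ y) := hρ y
  haveI hρy' : 𝒳.p.IsHomLift (𝟙 (𝒳.p.obj y)) (ρ y') := by rw [← hy]; exact hρ y'
  haveI : 𝒳.p.IsHomLift (𝟙 (𝒳.p.obj y)) (Φ.map a) := Φ.preserves_isHomLift _ a
  haveI : 𝒳.p.IsHomLift (𝟙 (𝒳.p.obj y)) (Φ.map a ≫ ρ y') := isHomLift_id_comp _ _ _ _ inferInstance hρy'
  haveI : 𝒳.p.IsHomLift (𝟙 (𝒳.p.obj y)) (ρ y ≫ a) := isHomLift_id_comp _ _ _ _ hρy ha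
  refine StkTopLib.vert_ext hpre (Φ.map a ≫ ρ y') (ρ y ≫ a) (hT y) fun V f hf => ?_
  obtain ⟨w, π, hπ, ⟨c⟩⟩ := hf
  haveI := hπ
  obtain ⟨g', hg', e⟩ := exists_fill (Φ := Φ) hg (IsHomLift.domain_eq 𝒳.p f π) c
  refine ⟨Φ.obj w, Φ.map π, Φ.preserves_isHomLift f π, ?_⟩
  have hπa : 𝒳.p.IsHomLift (f ≫ eqToHom hy.symm) (π ≫ a) := by
    have : 𝒳.p.IsHomLift f (π ≫ a) := isHomLift_comp_id _ _ _ _ hπ ha
    simpa using this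
  rw [← Category.assoc, ← Φ.toFunctor.map_comp, char y' w _ (π ≫ a) c g' hπa hg' e, ← Category.assoc,
    ← char y w f π c g' hπ hg' e, Category.assoc]

end GerbeLib
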